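import Cfsg.Agent.FixBN.Split

/-!
# S3876, row_char P4: Burnside transfer in a group with a split (B, N)-pair
-/

set_option autoImplicit false
set_option linter.unusedVariables false

namespace Cfsg.Agent.H842.PC

open Cfsg Cfsg.Agent.FixBN Cfsg.Agent.LieExceptional.BNPairCore

section

variable {G : Type*} [Group G] {P : Cfsg.BNPair G} {p : ℕ} {U : Subgroup G}

/-- `U` meets the torus trivially. -/
theorem eq_one_of_mem (h : Split P p U) {x : G} (hp : p.Prime) (hx : x ∈ U) (hN : x ∈ P.N) : x = 1 := by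
  obtain ⟨m, hm, hH⟩ := h.tor
  have h1 := hH x (h.le hx) hN
  obtain ⟨k, hk⟩ := h.isP ⟨x, hx⟩
  have h2 : x ^ p ^ k = 1 := by simpa using congrArg Subtype.val hk
  have hcop : Nat.Coprime m (p ^ k) := Nat.Coprime.pow_right _ ((Nat.Prime.coprime_iff_not_dvd hp).2 hm).symm
  exact orderOf_eq_one_iff.1 (Nat.eq_one_of_dvd_coprimes hcop (orderOf_dvd_of_pow_eq_one h1)
    (orderOf_dvd_of_pow_eq_one h2))

/-- Two elements of `N` in the same `U`-double coset are equal. -/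
theorem eq_of_mem (h : Split P p U) [hp : Fact p.Prime] {n₁ n₂ u v : G} (h1 : n₁ ∈ P.N) (h2 : n₂ ∈ P.N)
    (hu : u ∈ U) (hv : v ∈ U) (he : n₁ = u * n₂ * v) : n₁ = n₂ := by
  have h3 : n₂⁻¹ * n₁ ∈ P.B := by
    rw [← Cfsg.Agent.S0309.result P h2 h1]
    symm
    apply DoubleCoset.doubleCoset_eq_of_mem
    rw [DoubleCoset.mem_doubleCoset]
    exact ⟨u, h.le hu, v, h.le hv, he⟩
  have h4 : n₂⁻¹ * n₁ * v⁻¹ = n₂⁻¹ * u * n₂ := by rw [he]; group
  obtain ⟨k, hk⟩ := h.isP ⟨u, hu⟩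
  have h5 : u ^ p ^ k = 1 := by simpa using congrArg Subtype.val hk
  have h6 : n₂⁻¹ * n₁ * v⁻¹ ∈ U := by
    apply h.mem_of_pow (mul_mem h3 (inv_mem (h.le hv))) (n := k)
    rw [h4]
    have h7 : n₂⁻¹ * u * n₂ = n₂⁻¹ * u * n₂⁻¹⁻¹ := by rw [inv_inv]
    rw [h7, conj_pow, h5]
    group
  have h7 : n₂⁻¹ * n₁ ∈ U := by simpa using mul_mem h6 hv
  have h8 := eq_one_of_mem h hp.1 h7 (mul_mem (inv_mem h2) h1)
  exact (inv_mul_eq_one.1 h8).symm

/-- Bruhat: `G = U N U`. -/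
theorem bruhat' (h : Split P p U) (g : G) : ∃ u ∈ U, ∃ n ∈ P.N, ∃ v ∈ U, g = u * n * v := by
  obtain ⟨n, hn, hg⟩ := bruhat (P := P) g
  obtain ⟨b, hb, c, hc, rfl⟩ := mem_C.1 hg
  obtain ⟨u, hu, s, hs, rfl⟩ := h.cover' hb
  obtain ⟨v, hv, t, ht, rfl⟩ := h.cover' hc
  rw [Subgroup.mem_inf] at hs ht
  refine ⟨u, hu, s * n * t, mul_mem (mul_mem hs.2 hn) ht.2, t⁻¹ * v * t, ?_, by group⟩
  have := h.norm t⁻¹ (inv_mem ht.1) v hv
  rwa [inv_inv] at this

/-- Two elements of the torus centralised by `N` and conjugate in `G` are equal. -/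
theorem conj_eq (h : Split P p U) [hp : Fact p.Prime] {a b g : G} (ha : a ∈ P.B ⊓ P.N) (hb : b ∈ P.B ⊓ P.N)
    (hcomm : ∀ n ∈ P.N, n * a = a * n) (hg : g * a = b * g) : a = b := by
  rw [Subgroup.mem_inf] at ha hb
  obtain ⟨u, hu, n, hn, v, hv, rfl⟩ := bruhat' h g
  have h1 : n * a = (u⁻¹ * (b * u * b⁻¹)) * (b * n) * (v * (a⁻¹ * v⁻¹ * a)) := by
    have h2 : n * v * a = u⁻¹ * (b * (u * n * v)) := by rw [← hg]; group
    calc n * a = (n * v * a) * (a⁻¹ * v⁻¹ * a) := by group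
      _ = u⁻¹ * (b * (u * n * v)) * (a⁻¹ * v⁻¹ * a) := by rw [h2]
      _ = _ := by group
  have h2 : n * a = b * n := by
    apply eq_of_mem h (mul_mem hn ha.2) (mul_mem hb.2 hn) _ _ h1
    · exact mul_mem (inv_mem hu) (h.norm b hb.1 u hu)
    · refine mul_mem hv ?_
      have := h.norm a⁻¹ (inv_mem ha.1) _ (inv_mem hv)
      rwa [inv_inv] at this
  rw [hcomm n hn] at h2
  exact mul_right_cancel h2

end

/-- P4: a prime `t ≠ p` dividing `|G|` but not the index of `B`, such that `N` centralises the `t`-elements of the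
torus, does not exist in a nonabelian simple group. -/
theorem abelian_of_torus {G : Type*} [Group G] [Finite G] [IsSimpleGroup G] {p : ℕ} [Fact p.Prime]
    {P : Cfsg.BNPair G} {U : Subgroup G} (h : Split P p U) (hc : ∀ x ∈ P.B, ∀ y ∈ P.B, x * y * x⁻¹ * y⁻¹ ∈ U)
    {t : ℕ} (ht : t.Prime) (htp : t ≠ p) (hd : t ∣ Nat.card G) (hi : ¬ t ∣ P.B.index)
    (hcomm : ∀ n ∈ P.N, ∀ a ∈ P.B ⊓ P.N, (∃ k : ℕ, a ^ t ^ k = 1) → n * a = a * n) : IsMulCommutative G := by
  have hp : p.Prime := Fact.out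
  have : Fact t.Prime := ⟨ht⟩
  obtain ⟨T⟩ : Nonempty (Sylow t ↥(P.B ⊓ P.N)) := inferInstance
  set T' : Subgroup G := (T : Subgroup ↥(P.B ⊓ P.N)).map (P.B ⊓ P.N).subtype with hT'
  have hT'le : T' ≤ P.B ⊓ P.N := Subgroup.map_subtype_le _
  have hT'p : IsPGroup t T' := T.isPGroup'.map _
  have hpow : ∀ a ∈ T', ∃ k : ℕ, a ^ t ^ k = 1 := by
    intro a ha
    obtain ⟨k, hk⟩ := hT'p ⟨a, ha⟩
    exact ⟨k, by simpa using congrArg Subtype.val hk⟩
  -- the index of `T'`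
  have hBH : ¬ t ∣ (P.B ⊓ P.N).relIndex P.B := by
    have hcompl : Subgroup.IsComplement' (U.subgroupOf P.B) ((P.B ⊓ P.N).subgroupOf P.B) := by
      apply Subgroup.isComplement'_of_disjoint_and_mul_eq_univ
      · rw [Subgroup.disjoint_def]
        intro x hx hx'
        rw [Subgroup.mem_subgroupOf] at hx hx'
        exact Subtype.ext (eq_one_of_mem h hp hx (Subgroup.mem_inf.1 hx').2)
      · rw [Set.eq_univ_iff_forall]
        rintro ⟨b, hb⟩
        obtain ⟨u, hu, s, hs, hbs⟩ := h.cover' hb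
        rw [Set.mem_mul]
        refine ⟨⟨u, h.le hu⟩, ?_, ⟨s, (Subgroup.mem_inf.1 hs).1⟩, ?_, Subtype.ext hbs.symm⟩
        · exact hu
        · exact hs
    have h1 : (P.B ⊓ P.N).relIndex P.B = Nat.card (U.subgroupOf P.B) := hcompl.index_eq_card
    rw [h1]
    have h2 : IsPGroup p (U.subgroupOf P.B) := h.isP.comap_of_injective P.B.subtype P.B.subtype_injective
    obtain ⟨k, hk⟩ := IsPGroup.iff_card.1 h2
    rw [hk]
    intro hdv
    exact htp ((Nat.prime_dvd_prime_iff_eq ht hp).1 (ht.dvd_of_dvd_pow hdv))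
  have hidx : ¬ t ∣ T'.index := by
    have h1 : T'.index = (T : Subgroup ↥(P.B ⊓ P.N)).index * (P.B ⊓ P.N).index := by
      rw [hT', Subgroup.index_map_subtype]
    have h2 : (P.B ⊓ P.N).index = (P.B ⊓ P.N).relIndex P.B * P.B.index :=
      (Subgroup.relIndex_mul_index inf_le_left).symm
    rw [h1, h2, ht.dvd_mul, ht.dvd_mul]
    rintro (h3 | h3 | h3)
    · exact T.not_dvd_index h3
    · exact hBH h3
    · exact hi h3
  let Q : Sylow t G := hT'p.toSylow hidx
  have hQ : (Q : Subgroup G) = T' := rfl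
  have hnc : Subgroup.normalizer (Q : Set G) ≤ Subgroup.centralizer (Q : Set G) := by
    intro g hg
    rw [Subgroup.mem_centralizer_iff]
    intro a ha
    have ha' : a ∈ T' := ha
    have hb : g * a * g⁻¹ ∈ T' := (Subgroup.mem_normalizer_iff.1 hg a).1 ha
    have h1 := conj_eq h (hT'le ha') (hT'le hb) (fun n hn => hcomm n hn a (hT'le ha') (hpow a ha'))
      (g := g) (by group)
    conv_lhs => rw [h1]
    group
  have hcp := MonoidHom.ker_transferSylow_isComplement' Q hnc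
  rcases (inferInstance : (MonoidHom.transferSylow Q hnc).ker.Normal).eq_bot_or_eq_top with hk | hk
  · rw [hk] at hcp
    have htop : (Q : Subgroup G) = ⊤ := Subgroup.isComplement'_bot_left.1 hcp
    refine ⟨⟨fun x y => ?_⟩⟩
    have hx : x ∈ (Q : Subgroup G) := by rw [htop]; trivial
    have hy : y ∈ (Q : Subgroup G) := by rw [htop]; trivial
    exact hnc (Subgroup.le_normalizer hy) x hx
  · exfalso
    rw [hk] at hcp
    have hbot : (Q : Subgroup G) = ⊥ := Subgroup.isComplement'_top_left.1 hcp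
    apply hidx
    rw [← hQ, hbot, Subgroup.index_bot]
    exact hd

end Cfsg.Agent.H842.PC
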